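import Mathlib.RingTheory.Kaehler.Basic
import Mathlib.RingTheory.Etale.Kaehler
import Mathlib.RingTheory.RingHom.Etale
import Mathlib.RingTheory.RingHom.QuasiFinite
import Mathlib.RingTheory.QuasiFinite.Basic
import Mathlib.RingTheory.DiscreteValuationRing.Basic
import Mathlib.RingTheory.LocalRing.ResidueField.Basic
import Mathlib.Algebra.TrivSqZeroExt.Basic
import Mathlib.Algebra.Polynomial.Derivative
import Mathlib.RingTheory.MvPolynomial.Basic
import Mathlib.Algebra.MvPolynomial.Division

/-!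
# Differentials of functions on the semistable node `V[x, y]/(xy - ϖ)`
-/

set_option autoImplicit false
set_option linter.style.haveILetI false

universe u

open Polynomial

noncomputable section

namespace Groth.Agent.SemiNode

/-- In characteristic zero a polynomial Wronskian vanishes only for proportional polynomials. -/
theorem exists_const_of_wronskian {k : Type u} [Field k] [CharZero k] (G P : k[X]) (hP : P ≠ 0)
    (h : derivative G * P = G * derivative P) : ∃ c : k, G = C c * P := by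
  have hX : ∀ (G : k[X]) (n : ℕ), (X * derivative G).coeff n = n * G.coeff n := fun G n => by
    cases n with
    | zero => simp
    | succ n => rw [coeff_X_mul, coeff_derivative, mul_comm]; push_cast; ring
  have hdeg : ∀ G : k[X], G ≠ 0 → derivative G * P = G * derivative P → G.natDegree = P.natDegree := by
    intro G hG h
    have hle : ∀ Q : k[X], (X * derivative Q).natDegree ≤ Q.natDegree := fun Q =>
      natDegree_le_iff_coeff_eq_zero.2 fun n hn => by rw [hX, coeff_eq_zero_of_natDegree_lt hn, mul_zero]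
    have e : (X * derivative G) * P = G * (X * derivative P) := by rw [mul_assoc, h]; ring
    have h1 := congrArg (fun Q : k[X] => Q.coeff (G.natDegree + P.natDegree)) e
    simp only [coeff_mul_add_eq_of_natDegree_le (hle G) le_rfl,
      coeff_mul_add_eq_of_natDegree_le le_rfl (hle P), hX] at h1
    have h2 : ((G.natDegree : k) - P.natDegree) * (G.leadingCoeff * P.leadingCoeff) = 0 := by
      rw [leadingCoeff, leadingCoeff]; linear_combination h1
    rcases mul_eq_zero.1 h2 with h3 | h3
    · exact_mod_cast sub_eq_zero.1 h3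
    · exact absurd h3 (mul_ne_zero (leadingCoeff_ne_zero.2 hG) (leadingCoeff_ne_zero.2 hP))
  by_cases hG : G = 0
  · exact ⟨0, by simp [hG]⟩
  refine ⟨G.leadingCoeff / P.leadingCoeff, ?_⟩
  by_contra hne
  have hne' := sub_ne_zero.2 hne
  have h2 := hdeg _ hne' (by
    rw [derivative_sub, derivative_C_mul, sub_mul, sub_mul, h]; ring)
  have h3 : (G - C (G.leadingCoeff / P.leadingCoeff) * P).coeff P.natDegree = 0 := by
    rw [coeff_sub, coeff_C_mul, ← hdeg G hG h]
    show G.leadingCoeff - _ = 0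
    rw [hdeg G hG h]
    show G.leadingCoeff - _ / _ * P.leadingCoeff = 0
    rw [div_mul_cancel₀ _ (leadingCoeff_ne_zero.2 hP), sub_self]
  rw [← h2] at h3
  exact hne' (leadingCoeff_eq_zero.1 h3)

section Node

variable {V : Type u} [CommRing V] (ϖ : V)

local notation "Pol" => MvPolynomial (Fin 2) V

abbrev ideal : Ideal (MvPolynomial (Fin 2) V) :=
  Ideal.span {(MvPolynomial.X 0 * MvPolynomial.X 1 - MvPolynomial.C ϖ : MvPolynomial (Fin 2) V)}

abbrev Ring' : Type u := MvPolynomial (Fin 2) V ⧸ ideal ϖ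

noncomputable abbrev gen (i : Fin 2) : Ring' ϖ := Ideal.Quotient.mk (ideal ϖ) (MvPolynomial.X i)

theorem gen_mul : ∀ i j : Fin 2, i ≠ j → gen ϖ i * gen ϖ j = algebraMap V (Ring' ϖ) ϖ := by
  have h : gen ϖ 0 * gen ϖ 1 = algebraMap V (Ring' ϖ) ϖ := by
    rw [← map_mul, ← sub_eq_zero, IsScalarTower.algebraMap_apply V Pol (Ring' ϖ), Ideal.Quotient.algebraMap_eq,
      ← map_sub, Ideal.Quotient.eq_zero_iff_mem]
    exact Ideal.mem_span_singleton_self _
  intro i j hij
  fin_cases i <;> fin_cases j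
  · exact absurd rfl hij
  · exact h
  · rw [mul_comm]; exact h
  · exact absurd rfl hij

theorem span_gen {i j : Fin 2} (hij : i ≠ j) :
    Ideal.span {gen ϖ i, gen ϖ j} = Ideal.span {gen ϖ 0, gen ϖ 1} := by
  fin_cases i <;> fin_cases j
  · exact absurd rfl hij
  · rfl
  · exact congrArg Ideal.span (Set.pair_comm _ _)
  · exact absurd rfl hij

/-- Multiplication by a variable is injective on the node. -/
theorem gen_cancel [IsDomain V] (hϖ : ϖ ≠ 0) (i : Fin 2) (g : Ring' ϖ) (h : gen ϖ i * g = 0) : g = 0 := by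
  obtain ⟨g, rfl⟩ := Ideal.Quotient.mk_surjective g
  rw [← map_mul, Ideal.Quotient.eq_zero_iff_mem, Ideal.mem_span_singleton'] at h
  obtain ⟨q, hq⟩ := h
  have hdvd : (MvPolynomial.X i : Pol) ∣ MvPolynomial.C ϖ * q := by
    have : MvPolynomial.C ϖ * q = q * (MvPolynomial.X 0 * MvPolynomial.X 1) - MvPolynomial.X i * g := by
      rw [← hq]; ring
    rw [this]
    refine dvd_sub (Dvd.dvd.mul_left ?_ q) (dvd_mul_right _ _)
    fin_cases i
    · exact dvd_mul_right _ _
    · exact dvd_mul_left _ _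
  rcases (MvPolynomial.X_prime (R := V) (i := i)).dvd_or_dvd hdvd with h1 | h1
  · exfalso
    obtain ⟨c, hc⟩ := h1
    have := congrArg (MvPolynomial.eval (0 : Fin 2 → V)) hc
    simp [hϖ] at this
  · obtain ⟨c, rfl⟩ := h1
    refine Ideal.Quotient.eq_zero_iff_mem.2 (Ideal.mem_span_singleton'.2 ⟨c, ?_⟩)
    apply mul_left_cancel₀ (MvPolynomial.X_ne_zero (R := V) i)
    rw [← hq]; ring

variable [IsLocalRing V]

local notation "k" => IsLocalRing.ResidueField V

/-- The restriction to the branch `x_i = 0`. -/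
noncomputable def branch (hm : ϖ ∈ IsLocalRing.maximalIdeal V) (i : Fin 2) : Ring' ϖ →ₐ[V] k[X] :=
  Ideal.Quotient.liftₐ (ideal ϖ) (MvPolynomial.aeval fun l => if l = i then 0 else X) fun a ha => by
    obtain ⟨q, rfl⟩ := Ideal.mem_span_singleton'.1 ha
    have h0 : algebraMap V k ϖ = 0 := (IsLocalRing.residue_eq_zero_iff ϖ).2 hm
    rw [map_mul]
    refine mul_eq_zero_of_right _ ?_
    rw [map_sub, map_mul, MvPolynomial.aeval_X, MvPolynomial.aeval_X, MvPolynomial.aeval_C,
      IsScalarTower.algebraMap_apply V k k[X], h0, map_zero, sub_zero]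
    fin_cases i <;> simp

variable (hm : IsLocalRing.maximalIdeal V = Ideal.span {ϖ})

include hm

theorem mem_max : ϖ ∈ IsLocalRing.maximalIdeal V := hm ▸ Ideal.mem_span_singleton_self ϖ

theorem branch_gen (i l : Fin 2) : branch ϖ (mem_max ϖ hm) i (gen ϖ l) = if l = i then 0 else X := by
  show MvPolynomial.aeval _ (MvPolynomial.X l) = _
  rw [MvPolynomial.aeval_X]

theorem mem_span_of_branch {i j : Fin 2} (hij : i ≠ j) (g : Ring' ϖ)
    (h : branch ϖ (mem_max ϖ hm) i g = 0) : g ∈ Ideal.span {gen ϖ i} := by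
  let J : Ideal (Ring' ϖ) := Ideal.span {gen ϖ i}
  let σ : V →+* Ring' ϖ ⧸ J := (Ideal.Quotient.mk J).comp (algebraMap V (Ring' ϖ))
  have hϖJ : ∀ a ∈ IsLocalRing.maximalIdeal V, σ a = 0 := by
    intro a ha
    rw [hm, Ideal.mem_span_singleton'] at ha
    obtain ⟨c, rfl⟩ := ha
    show Ideal.Quotient.mk J (algebraMap V (Ring' ϖ) (c * ϖ)) = 0
    rw [map_mul (algebraMap V (Ring' ϖ)), ← gen_mul ϖ i j hij, Ideal.Quotient.eq_zero_iff_mem]
    exact Ideal.mul_mem_left _ _ (Ideal.mul_mem_right _ _ (Ideal.mem_span_singleton_self _))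
  let σk : k →+* Ring' ϖ ⧸ J := Ideal.Quotient.lift (IsLocalRing.maximalIdeal V) σ hϖJ
  let ψ : k[X] →+* Ring' ϖ ⧸ J :=
    eval₂RingHom σk (Ideal.Quotient.mk J (gen ϖ j))
  have key : ψ.comp (branch ϖ (mem_max ϖ hm) i).toRingHom = Ideal.Quotient.mk J := by
    refine Ideal.Quotient.ringHom_ext (MvPolynomial.ringHom_ext (fun a => ?_) fun l => ?_)
    · show ψ (branch ϖ (mem_max ϖ hm) i (algebraMap V _ a)) = Ideal.Quotient.mk J (algebraMap V (Ring' ϖ) a)
      rw [AlgHom.commutes, IsScalarTower.algebraMap_apply V k k[X]]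
      show eval₂ _ _ (C _) = _
      rw [eval₂_C]
      rfl
    · show ψ (branch ϖ (mem_max ϖ hm) i (gen ϖ l)) = Ideal.Quotient.mk J (gen ϖ l)
      rw [branch_gen ϖ hm]
      split_ifs with h
      · rw [map_zero, h, eq_comm, Ideal.Quotient.eq_zero_iff_mem]
        exact Ideal.mem_span_singleton_self _
      · obtain rfl : l = j := by omega
        show eval₂ _ _ X = _
        rw [eval₂_X]
  rw [← Ideal.Quotient.eq_zero_iff_mem, ← key]
  show ψ (branch ϖ (mem_max ϖ hm) i g) = 0
  rw [h, map_zero]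

theorem isPrime_gen {i j : Fin 2} (hij : i ≠ j) : (Ideal.span {gen ϖ i}).IsPrime := by
  have e : Ideal.span {gen ϖ i} = RingHom.ker (branch ϖ (mem_max ϖ hm) i).toRingHom := by
    refine le_antisymm ((Ideal.span_singleton_le_iff_mem _).2 ?_) fun g hg => mem_span_of_branch ϖ hm hij g hg
    show branch ϖ (mem_max ϖ hm) i (gen ϖ i) = 0
    rw [branch_gen ϖ hm, if_pos rfl]
  rw [e]
  exact RingHom.ker_isPrime _

theorem eval_branch_eq_zero_iff {i j : Fin 2} (hij : i ≠ j) (g : Ring' ϖ) :
    (branch ϖ (mem_max ϖ hm) i g).eval 0 = 0 ↔ g ∈ Ideal.span {gen ϖ i, gen ϖ j} := by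
  constructor
  · intro h
    obtain ⟨q, hq⟩ : X ∣ branch ϖ (mem_max ϖ hm) i g := by
      rwa [X_dvd_iff, coeff_zero_eq_eval_zero]
    have hsurj : ∀ q : k[X], ∃ r, branch ϖ (mem_max ϖ hm) i r = q := by
      intro q
      induction q using Polynomial.induction_on' with
      | add p q hp hq =>
        obtain ⟨a, rfl⟩ := hp; obtain ⟨b, rfl⟩ := hq
        exact ⟨a + b, map_add _ _ _⟩
      | monomial n a =>
        obtain ⟨a, rfl⟩ := IsLocalRing.residue_surjective a
        refine ⟨algebraMap V _ a * gen ϖ j ^ n, ?_⟩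
        rw [map_mul, map_pow, AlgHom.commutes, branch_gen ϖ hm, if_neg (Ne.symm hij), ← C_mul_X_pow_eq_monomial,
          IsScalarTower.algebraMap_apply V k k[X]]
        rfl
    obtain ⟨r, hr⟩ := hsurj q
    have h1 : g - gen ϖ j * r ∈ Ideal.span {gen ϖ i} := mem_span_of_branch ϖ hm hij _ (by
      rw [map_sub, map_mul, branch_gen ϖ hm, if_neg (Ne.symm hij), hr, ← hq, sub_self])
    rw [show g = (g - gen ϖ j * r) + gen ϖ j * r by ring]
    exact add_mem (Ideal.span_mono (by simp) h1) (Ideal.mul_mem_right _ _ (Ideal.subset_span (by simp)))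
  · intro h
    obtain ⟨a, b, rfl⟩ := Ideal.mem_span_pair.1 h
    simp [branch_gen ϖ hm, Ne.symm hij]

end Node

section Differentials

variable {V : Type u} [CommRing V] (ϖ : V) (h : Ring' ϖ)

/-- The two coordinates on the localised node. -/
noncomputable abbrev loc (i : Fin 2) : Localization.Away h :=
  algebraMap (Ring' ϖ) (Localization.Away h) (gen ϖ i)

theorem D_mem_span (f : Localization.Away h) :
    KaehlerDifferential.D V (Localization.Away h) f ∈
      Submodule.span (Localization.Away h) (Set.range fun l => KaehlerDifferential.D V (Localization.Away h) (loc ϖ h l)) := by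
  let B := Localization.Away h
  let d := KaehlerDifferential.D V B
  set S := Submodule.span B (Set.range fun l => d (loc ϖ h l))
  have hQ : ∀ g : Ring' ϖ, d (algebraMap (Ring' ϖ) B g) ∈ S := by
    intro g
    obtain ⟨G, rfl⟩ := Ideal.Quotient.mk_surjective g
    induction G using MvPolynomial.induction_on with
    | C a =>
      rw [show Ideal.Quotient.mk (ideal ϖ) (MvPolynomial.C a) = algebraMap V (Ring' ϖ) a from rfl,
        ← IsScalarTower.algebraMap_apply, Derivation.map_algebraMap]
      exact zero_mem _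
    | add p q hp hq => rw [map_add, map_add, map_add]; exact add_mem hp hq
    | mul_X p l hp =>
      rw [map_mul, map_mul, Derivation.leibniz]
      exact add_mem (Submodule.smul_mem _ _ (Submodule.subset_span ⟨l, rfl⟩)) (Submodule.smul_mem _ _ hp)
  obtain ⟨g, s, rfl⟩ := IsLocalization.exists_mk'_eq (Submonoid.powers h) f
  have hu : IsUnit (algebraMap (Ring' ϖ) B s) := IsLocalization.map_units B s
  have h1 := congrArg d (IsLocalization.mk'_spec B g s)
  rw [Derivation.leibniz] at h1
  have h2 : algebraMap (Ring' ϖ) B (s : Ring' ϖ) • d (IsLocalization.mk' B g s) ∈ S := by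
    rw [← add_sub_cancel_left (IsLocalization.mk' B g s • d (algebraMap (Ring' ϖ) B (s : Ring' ϖ)))
      (algebraMap (Ring' ϖ) B (s : Ring' ϖ) • d (IsLocalization.mk' B g s)), h1]
    exact sub_mem (hQ g) (Submodule.smul_mem _ _ (hQ _))
  obtain ⟨u, hu⟩ := hu
  rw [← hu] at h2
  have h3 := S.smul_mem ((u⁻¹ : Bˣ) : B) h2
  rwa [smul_smul, Units.inv_mul, one_smul] at h3

open TrivSqZeroExt in
/-- The vector field `x ∂x - y ∂y` on the localised node. -/
theorem exists_derivation :
    ∃ δ : Derivation V (Localization.Away h) (Localization.Away h),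
      δ (loc ϖ h 0) = loc ϖ h 0 ∧ δ (loc ϖ h 1) = - loc ϖ h 1 := by
  let B := Localization.Away h
  let sgn : Fin 2 → TrivSqZeroExt B B :=
    ![inl (loc ϖ h 0) + inr (loc ϖ h 0), inl (loc ϖ h 1) - inr (loc ϖ h 1)]
  let Ψ₀ : MvPolynomial (Fin 2) V →ₐ[V] TrivSqZeroExt B B := MvPolynomial.aeval sgn
  have hkill : ∀ a ∈ ideal ϖ, Ψ₀ a = 0 := fun a ha => by
    obtain ⟨q, rfl⟩ := Ideal.mem_span_singleton'.1 ha
    have h01 : loc ϖ h 0 * loc ϖ h 1 = algebraMap V B ϖ := by
      rw [← map_mul, gen_mul ϖ 0 1 (by decide), ← IsScalarTower.algebraMap_apply]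
    rw [map_mul]
    refine mul_eq_zero_of_right _ (TrivSqZeroExt.ext ?_ ?_)
    · simp [Ψ₀, sgn, h01, algebraMap_eq_inl']
    · simp [Ψ₀, sgn, algebraMap_eq_inl']
      ring
  let Ψ₁ : Ring' ϖ →ₐ[V] TrivSqZeroExt B B := Ideal.Quotient.liftₐ _ Ψ₀ hkill
  have hfst : ∀ g, (Ψ₁ g).fst = algebraMap (Ring' ϖ) B g := by
    have : (fstHom V B B).comp Ψ₁ = IsScalarTower.toAlgHom V (Ring' ϖ) B :=
      Ideal.Quotient.algHom_ext _ (MvPolynomial.algHom_ext fun l => by
        show (Ψ₀ (MvPolynomial.X l)).fst = algebraMap (Ring' ϖ) B (gen ϖ l)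
        fin_cases l <;> simp [Ψ₀, sgn] <;> rfl)
    exact fun g => AlgHom.congr_fun this g
  have hunit : ∀ s : Submonoid.powers h, IsUnit (Ψ₁.toRingHom s) := fun s => by
    rw [AlgHom.toRingHom_eq_coe, RingHom.coe_coe, isUnit_iff_isUnit_fst, hfst]
    exact IsLocalization.map_units B s
  let Ψ : B →ₐ[V] TrivSqZeroExt B B := IsLocalization.liftAlgHom (M := Submonoid.powers h) (f := Ψ₁) hunit
  have hΨ : ∀ g, Ψ (algebraMap (Ring' ϖ) B g) = Ψ₁ g := fun g => IsLocalization.lift_eq _ g
  have hΨf : ∀ b, (Ψ b).fst = b := by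
    have : ((fstHom V B B).comp Ψ).toRingHom = RingHom.id B :=
      IsLocalization.ringHom_ext (Submonoid.powers h) (RingHom.ext fun g => by
        show (Ψ (algebraMap (Ring' ϖ) B g)).fst = _
        rw [hΨ, hfst]
        rfl)
    exact fun b => RingHom.congr_fun this b
  let L : B →ₗ[V] B :=
    { toFun := fun b => (Ψ b).snd
      map_add' := fun a b => by rw [map_add, snd_add]
      map_smul' := fun c b => by rw [map_smul, snd_smul]; rfl }
  refine ⟨Derivation.mk' L (fun a b => ?_), ?_, ?_⟩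
  · show (Ψ (a * b)).snd = _
    rw [map_mul, snd_mul, hΨf, hΨf, op_smul_eq_smul]
    rfl
  · show (Ψ (algebraMap (Ring' ϖ) B (gen ϖ 0))).snd = _
    rw [hΨ]
    show (Ψ₀ (MvPolynomial.X 0)).snd = _
    simp [Ψ₀, sgn]
  · show (Ψ (algebraMap (Ring' ϖ) B (gen ϖ 1))).snd = _
    rw [hΨ]
    show (Ψ₀ (MvPolynomial.X 1)).snd = _
    simp [Ψ₀, sgn]

variable [IsDomain V] [IsLocalRing V]

/-- The differential of a function vanishes on the branch on which `x ∂x - y ∂y` kills it. -/
theorem D_quot_eq_zero (hm : IsLocalRing.maximalIdeal V = Ideal.span {ϖ}) {i j : Fin 2} (hij : i ≠ j)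
    (hh : h ∉ Ideal.span {gen ϖ 0, gen ϖ 1}) (δ : Derivation V (Localization.Away h) (Localization.Away h))
    (hδi : δ (loc ϖ h i) ∈ Ideal.span {loc ϖ h i})
    (hδj : δ (loc ϖ h j) = loc ϖ h j ∨ δ (loc ϖ h j) = - loc ϖ h j)
    (f : Localization.Away h) (hf : δ f ∈ Ideal.span {loc ϖ h i}) :
    KaehlerDifferential.D V (Localization.Away h ⧸ Ideal.span {loc ϖ h i}) (Ideal.Quotient.mk _ f) = 0 := by
  let B := Localization.Away h
  let J : Ideal B := Ideal.span {loc ϖ h i}
  have hprime := isPrime_gen ϖ hm hij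
  have hdisj : Disjoint (Submonoid.powers h : Set (Ring' ϖ)) (Ideal.span {gen ϖ i} : Ideal (Ring' ϖ)) :=
    (Ideal.disjoint_powers_iff_notMem _ hprime.isRadical).2 fun hc => hh (by
      rw [← span_gen ϖ hij]; exact Ideal.span_mono (by simp) hc)
  have hJ : J = (Ideal.span {gen ϖ i}).map (algebraMap (Ring' ϖ) B) := by
    rw [Ideal.map_span, Set.image_singleton]
  haveI hJp : J.IsPrime := by
    rw [hJ]; exact IsLocalization.isPrime_of_isPrime_disjoint (Submonoid.powers h) B _ hprime hdisj
  have hj : loc ϖ h j ∉ J := by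
    intro hc
    rw [hJ] at hc
    have h1 : gen ϖ j ∈ ((Ideal.span {gen ϖ i}).map (algebraMap (Ring' ϖ) B)).comap (algebraMap (Ring' ϖ) B) := hc
    replace h1 := (IsLocalization.under_map_of_isPrime_disjoint (Submonoid.powers h) B hprime hdisj).le h1
    obtain ⟨c, hc⟩ := Ideal.mem_span_singleton'.1 h1
    have h2 := congrArg (branch ϖ (mem_max ϖ hm) i) hc
    rw [map_mul, branch_gen ϖ hm, branch_gen ϖ hm, if_pos rfl, if_neg (Ne.symm hij), mul_zero] at h2
    exact X_ne_zero h2.symm
  obtain ⟨c, hc⟩ := Submodule.mem_span_range_iff_exists_fun _ |>.1 (D_mem_span ϖ h f)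
  have hsum : ∀ (F : Fin 2 → B), (∑ l, F l) = F i + F j := by
    intro F
    rw [Fin.sum_univ_two]
    fin_cases i <;> fin_cases j
    · exact absurd rfl hij
    · rfl
    · exact add_comm _ _
    · exact absurd rfl hij
  have h1 := congrArg δ.liftKaehlerDifferential hc
  rw [map_sum, Derivation.liftKaehlerDifferential_comp_D, hsum] at h1
  simp only [map_smul, Derivation.liftKaehlerDifferential_comp_D, smul_eq_mul] at h1
  have hcj : c j ∈ J := by
    refine (hJp.mem_or_mem (?_ : c j * loc ϖ h j ∈ J)).resolve_right hj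
    have h2 : c j * δ (loc ϖ h j) ∈ J := by
      rw [show c j * δ (loc ϖ h j) = δ f - c i * δ (loc ϖ h i) by rw [← h1]; ring]
      exact sub_mem hf (J.mul_mem_left _ hδi)
    rcases hδj with e | e <;> rw [e] at h2
    · exact h2
    · rw [mul_neg, neg_mem_iff] at h2; exact h2
  have h3 := congrArg (KaehlerDifferential.map V V B (B ⧸ J)) hc
  rw [KaehlerDifferential.map_D, map_sum] at h3
  refine h3.symm.trans (Finset.sum_eq_zero fun l _ => ?_)
  rw [map_smul, KaehlerDifferential.map_D]
  rcases (show l = i ∨ l = j by omega) with e | e <;> rw [e]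
  · rw [Ideal.Quotient.algebraMap_eq, Ideal.Quotient.eq_zero_iff_mem.2 (Ideal.mem_span_singleton_self _), map_zero,
      smul_zero]
  · rw [← IsScalarTower.algebraMap_smul (B ⧸ J) (c j), Ideal.Quotient.algebraMap_eq,
      Ideal.Quotient.eq_zero_iff_mem.2 hcj]
    exact zero_smul (B ⧸ J) (KaehlerDifferential.D V (B ⧸ J) _)

/-- A function étale on the generic fibre is killed by `x ∂x - y ∂y` on one branch. -/
theorem deriv_mem (hm : IsLocalRing.maximalIdeal V = Ideal.span {ϖ}) (hϖ : ϖ ≠ 0)
    (hh : h ∉ Ideal.span {gen ϖ 0, gen ϖ 1}) (δ : Derivation V (Localization.Away h) (Localization.Away h))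
    (hδ0 : δ (loc ϖ h 0) = loc ϖ h 0) (hδ1 : δ (loc ϖ h 1) = - loc ϖ h 1)
    (f : Localization.Away h)
    (hf : ((algebraMap (Localization.Away h)
        (Localization.Away (algebraMap V (Localization.Away h) ϖ))).comp
          (Polynomial.aeval f : Polynomial V →ₐ[V] Localization.Away h).toRingHom).Etale) :
    δ f ∈ Ideal.span {loc ϖ h 0} ∨ δ f ∈ Ideal.span {loc ϖ h 1} := by
  let B := Localization.Away h
  let B' := Localization.Away (algebraMap V B ϖ)
  let d := KaehlerDifferential.D V B'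
  letI : Algebra V[X] B' :=
    ((algebraMap B B').comp (Polynomial.aeval f : V[X] →ₐ[V] B).toRingHom).toAlgebra
  haveI : IsScalarTower V V[X] B' := IsScalarTower.of_algebraMap_eq fun c => by
    show _ = algebraMap B B' (Polynomial.aeval f (algebraMap V V[X] c))
    rw [AlgHom.commutes, ← IsScalarTower.algebraMap_apply]
  haveI : Algebra.Etale V[X] B' := hf
  haveI : Subsingleton (Ω[B'⁄V[X]]) := inferInstance
  -- the differential of `f` generates
  have hgen : d (algebraMap B B' (loc ϖ h 0)) ∈ Submodule.span B' {d (algebraMap B B' f)} := by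
    have h1 : d (algebraMap B B' (loc ϖ h 0)) ∈ LinearMap.range (KaehlerDifferential.mapBaseChange V V[X] B') := by
      rw [KaehlerDifferential.range_mapBaseChange]
      exact LinearMap.mem_ker.2 (Subsingleton.elim _ _)
    obtain ⟨z, hz⟩ := h1
    rw [← hz]
    clear hz
    induction z using TensorProduct.induction_on with
    | zero => rw [map_zero]; exact zero_mem _
    | add p q hp hq => rw [map_add]; exact add_mem hp hq
    | tmul b ω =>
      rw [KaehlerDifferential.mapBaseChange_tmul]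
      refine Submodule.smul_mem _ _ ?_
      have hω : ω ∈ Submodule.span V[X] (Set.range (KaehlerDifferential.D V V[X])) := by
        rw [KaehlerDifferential.span_range_derivation]; trivial
      induction hω using Submodule.span_induction with
      | mem w hw =>
        obtain ⟨p, rfl⟩ := hw
        rw [KaehlerDifferential.map_D]
        show d (algebraMap B B' (Polynomial.aeval f p)) ∈ _
        rw [← Polynomial.aeval_algebraMap_apply, Derivation.map_aeval]
        exact Submodule.smul_mem _ _ (Submodule.mem_span_singleton_self _)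
      | zero => rw [map_zero]; exact zero_mem _
      | add p q _ _ hp hq => rw [map_add]; exact add_mem hp hq
      | smul c p _ hp => rw [map_smul, ← IsScalarTower.algebraMap_smul B' c]; exact Submodule.smul_mem _ _ hp
  obtain ⟨c', hc'⟩ := Submodule.mem_span_singleton.1 hgen
  obtain ⟨c₀, s, rfl⟩ := IsLocalization.exists_mk'_eq (Submonoid.powers (algebraMap V B ϖ)) c'
  obtain ⟨m, hs⟩ := s.2
  replace hs : algebraMap V B ϖ ^ m = (s : B) := hs
  have h2 := congrArg (fun w => algebraMap B B' (algebraMap V B ϖ ^ m) • w) hc'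
  simp only [smul_smul] at h2
  rw [hs, IsLocalization.mk'_spec', ← hs] at h2
  rw [← KaehlerDifferential.map_D V V B B', ← KaehlerDifferential.map_D V V B B'] at h2
  replace h2 : KaehlerDifferential.map V V B B' (c₀ • KaehlerDifferential.D V B f) =
      KaehlerDifferential.map V V B B' (algebraMap V B ϖ ^ m • KaehlerDifferential.D V B (loc ϖ h 0)) := by
    rw [map_smul, map_smul, ← algebraMap_smul B' c₀, ← algebraMap_smul B' (algebraMap V B ϖ ^ m)]
    exact h2
  obtain ⟨⟨_, r, rfl⟩, hr⟩ := (IsLocalizedModule.eq_iff_exists (Submonoid.powers (algebraMap V B ϖ))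
    (KaehlerDifferential.map V V B B')).1 h2
  have h4 := congrArg δ.liftKaehlerDifferential hr
  simp only [Submonoid.smul_def, map_smul, Derivation.liftKaehlerDifferential_comp_D, hδ0, smul_eq_mul] at h4
  erw [Derivation.liftKaehlerDifferential_comp_D, Derivation.liftKaehlerDifferential_comp_D, hδ0] at h4
  have hxy : algebraMap V B ϖ = loc ϖ h 0 * loc ϖ h 1 := by
    rw [← map_mul, gen_mul ϖ 0 1 (by decide), ← IsScalarTower.algebraMap_apply]
  rw [hxy] at h4
  by_contra hcon
  rw [not_or] at hcon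
  -- properties of the two coordinates
  have hmax : h ∉ RingHom.ker ((Polynomial.evalRingHom 0).comp (branch ϖ (mem_max ϖ hm) 0).toRingHom) := fun hc =>
    hh ((eval_branch_eq_zero_iff ϖ hm (show (0 : Fin 2) ≠ 1 by decide) h).1 hc)
  have hP : ∀ i j : Fin 2, i ≠ j → ((Ideal.span {loc ϖ h i}).IsPrime ∧ ∀ b : B, loc ϖ h i * b = 0 → b = 0) := by
    intro i j hij
    have hprime := isPrime_gen ϖ hm hij
    have hdisj : Disjoint (Submonoid.powers h : Set (Ring' ϖ)) (Ideal.span {gen ϖ i} : Ideal (Ring' ϖ)) :=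
      (Ideal.disjoint_powers_iff_notMem _ hprime.isRadical).2 fun hc => hh (by
        rw [← span_gen ϖ hij]; exact Ideal.span_mono (by simp) hc)
    refine ⟨?_, fun b hb => ?_⟩
    · have := IsLocalization.isPrime_of_isPrime_disjoint (Submonoid.powers h) B _ hprime hdisj
      rwa [Ideal.map_span, Set.image_singleton] at this
    · obtain ⟨g, s, rfl⟩ := IsLocalization.exists_mk'_eq (Submonoid.powers h) b
      rw [IsLocalization.mul_mk'_eq_mk'_of_mul, IsLocalization.mk'_eq_zero_iff] at hb
      obtain ⟨t, ht⟩ := hb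
      rw [IsLocalization.mk'_eq_zero_iff]
      exact ⟨t, gen_cancel ϖ hϖ i _ (by rw [← ht]; ring)⟩
  obtain ⟨hp0, hc0⟩ := hP 0 1 (by decide)
  obtain ⟨hp1, hc1⟩ := hP 1 0 (by decide)
  have strip : ∀ (t : B), (Ideal.span {t}).IsPrime → (∀ b, t * b = 0 → b = 0) → δ f ∉ Ideal.span {t} →
      ∀ (N : ℕ) (w e : B), w * δ f = t ^ N * e → ∃ w', w' * δ f = e := by
    intro t ht hcanc hnot N
    induction N with
    | zero => intro w e he; exact ⟨w, by rw [he, pow_zero, one_mul]⟩
    | succ N ih =>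
      intro w e he
      have hw : w ∈ Ideal.span {t} := (ht.mem_or_mem (by
        rw [he, pow_succ', mul_assoc]; exact Ideal.mul_mem_right _ _ (Ideal.mem_span_singleton_self t))).resolve_right hnot
      obtain ⟨w', rfl⟩ := Ideal.mem_span_singleton'.1 hw
      exact ih w' e (sub_eq_zero.1 (hcanc _ (by linear_combination he)))
  obtain ⟨w₁, hw₁⟩ := strip _ hp0 hc0 hcon.1 (r + m + 1)
    ((loc ϖ h 0 * loc ϖ h 1) ^ r * c₀) (loc ϖ h 1 ^ (r + m)) (by linear_combination h4)
  obtain ⟨w₂, hw₂⟩ := strip _ hp1 hc1 hcon.2 (r + m) w₁ 1 (by rw [hw₁, mul_one])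
  -- `δ f` lies in the ideal of the closed point
  obtain ⟨cc, hcc⟩ := Submodule.mem_span_range_iff_exists_fun _ |>.1 (D_mem_span ϖ h f)
  have h5 := congrArg δ.liftKaehlerDifferential hcc
  rw [map_sum, Fin.sum_univ_two] at h5
  simp only [map_smul, Derivation.liftKaehlerDifferential_comp_D, smul_eq_mul, hδ0, hδ1] at h5
  have h6 : (1 : B) ∈ (Ideal.span {gen ϖ 0, gen ϖ 1}).map (algebraMap (Ring' ϖ) B) := by
    rw [← hw₂, ← h5]
    refine Ideal.mul_mem_left _ _ (add_mem (Ideal.mul_mem_left _ _ (Ideal.mem_map_of_mem _ (Ideal.subset_span (by simp))))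
      (Ideal.mul_mem_left _ _ (neg_mem (Ideal.mem_map_of_mem _ (Ideal.subset_span (by simp))))))
  refine (IsLocalization.map_algebraMap_ne_top_iff_disjoint (Submonoid.powers h) B _).2 ?_ ((Ideal.eq_top_iff_one _).2 h6)
  exact (Set.disjoint_left.2 fun z hz hz' => by
    obtain ⟨n, rfl⟩ := hz
    have h7 := (eval_branch_eq_zero_iff ϖ hm (show (0 : Fin 2) ≠ 1 by decide) (h ^ n)).2 hz'
    rw [map_pow, eval_pow, pow_eq_zero_iff'] at h7
    exact hh ((eval_branch_eq_zero_iff ϖ hm (show (0 : Fin 2) ≠ 1 by decide) h).1 h7.1))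

end Differentials

end Groth.Agent.SemiNode
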